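import Mathlib.LinearAlgebra.FreeModule.Finite.Quotient
import Mathlib.LinearAlgebra.Determinant
import Mathlib.NumberTheory.Padics.RingHoms

/-!
The determinant of an injective map of free `ℤ_p`-modules measures its cokernel.
-/

set_option autoImplicit false
set_option linter.style.haveILetI false

open Module

namespace Groth.Agent.AVSubLib

variable {p : ℕ} [Fact p.Prime]

theorem card_quotient_span (a : ℤ_[p]) (ha : a ≠ 0) :
    Nat.card (ℤ_[p] ⧸ Ideal.span ({a} : Set ℤ_[p])) = p ^ a.valuation := by
  have hspan : Ideal.span ({a} : Set ℤ_[p]) = RingHom.ker (PadicInt.toZModPow a.valuation : ℤ_[p] →+* _) := by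
    rw [PadicInt.ker_toZModPow]
    conv_lhs => rw [PadicInt.unitCoeff_spec ha, mul_comm]
    exact Ideal.span_singleton_mul_right_unit (Units.isUnit _) _
  rw [hspan, Nat.card_congr (RingHom.quotientKerEquivOfSurjective
    (ZMod.ringHom_surjective (PadicInt.toZModPow a.valuation : ℤ_[p] →+* _))).toEquiv, Nat.card_zmod]

/-- `#coker = p ^ v(det)`. -/
theorem card_coker {ι M M' : Type*} [Fintype ι] [DecidableEq ι] [AddCommGroup M] [Module ℤ_[p] M]
    [AddCommGroup M'] [Module ℤ_[p] M'] (b : Basis ι ℤ_[p] M) (b' : Basis ι ℤ_[p] M') (F : M →ₗ[ℤ_[p]] M')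
    (hF : Function.Injective F) :
    (LinearMap.toMatrix b b' F).det ≠ 0 ∧
      Nat.card (M' ⧸ LinearMap.range F) = p ^ (LinearMap.toMatrix b b' F).det.valuation := by
  let e₀ : M' ≃ₗ[ℤ_[p]] M := b'.equiv b (Equiv.refl ι)
  let G : M' →ₗ[ℤ_[p]] M' := F ∘ₗ e₀
  have hG : Function.Injective G := hF.comp e₀.injective
  have hGdet : LinearMap.det G = (LinearMap.toMatrix b b' F).det := by
    rw [← LinearMap.det_toMatrix b', LinearMap.toMatrix_comp b' b b']
    suffices LinearMap.toMatrix b' b (e₀ : M' →ₗ[ℤ_[p]] M) = 1 by rw [this, mul_one]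
    ext i j
    simp [LinearMap.toMatrix_apply, e₀, Matrix.one_apply, Finsupp.single_apply, eq_comm]
  have hrange : LinearMap.range G = LinearMap.range F := by
    simp [G, LinearMap.range_comp]
  rw [← hrange, ← hGdet]
  let eG : M' ≃ₗ[ℤ_[p]] LinearMap.range G := LinearEquiv.ofInjective G hG
  have h : Module.finrank ℤ_[p] (LinearMap.range G) = Module.finrank ℤ_[p] M' := eG.symm.finrank_eq
  let a := Submodule.smithNormalFormCoeffs b' h
  let bt := Submodule.smithNormalFormTopBasis b' h
  let bb := Submodule.smithNormalFormBotBasis b' h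
  let es : M' ≃ₗ[ℤ_[p]] LinearMap.range G := bt.equiv bb (Equiv.refl ι)
  have hassoc : Associated (LinearMap.det G) (∏ i, a i) := by
    have h1 := LinearMap.associated_det_comp_equiv (LinearMap.range G).subtype eG es
    have h2 : (LinearMap.range G).subtype ∘ₗ (eG : M' →ₗ[ℤ_[p]] LinearMap.range G) = G := LinearMap.ext fun x => rfl
    have h3 : LinearMap.toMatrix bt bt ((LinearMap.range G).subtype ∘ₗ (es : M' →ₗ[ℤ_[p]] LinearMap.range G)) =
        Matrix.diagonal a := by
      ext i j
      rw [LinearMap.toMatrix_apply, Matrix.diagonal_apply]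
      simp only [LinearMap.comp_apply, LinearEquiv.coe_coe, es, Basis.equiv_apply, Equiv.refl_apply,
        Submodule.subtype_apply, bb]
      rw [Submodule.smithNormalFormBotBasis_def]
      simp only [map_smul, Finsupp.smul_apply, smul_eq_mul, a, bt, Basis.repr_self, Finsupp.single_apply]
      split_ifs with h4 h5 h6
      all_goals (try subst h4) <;> simp_all
    rw [h2, ← LinearMap.det_toMatrix bt ((LinearMap.range G).subtype ∘ₗ _), h3, Matrix.det_diagonal] at h1
    exact h1
  have ha : ∀ i, a i ≠ 0 := Submodule.smithNormalFormCoeffs_ne_zero b' h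
  have hprod : ∏ i, a i ≠ 0 := Finset.prod_ne_zero_iff.mpr fun i _ => ha i
  obtain ⟨u, hu⟩ := hassoc
  have hne : LinearMap.det G ≠ 0 := fun h0 => hprod (by rw [← hu, h0, zero_mul])
  refine ⟨hne, ?_⟩
  rw [Nat.card_congr ((LinearMap.range G).quotientEquivPiSpan b' h).toEquiv, Nat.card_pi,
    Finset.prod_congr rfl fun i _ => card_quotient_span (a i) (ha i), Finset.prod_pow_eq_pow_sum]
  congr 1
  have hv : (∏ i, a i).valuation = ∑ i, (a i).valuation := by
    induction (Finset.univ : Finset ι) using Finset.induction_on with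
    | empty => simp
    | insert i s hi ih =>
      rw [Finset.prod_insert hi, Finset.sum_insert hi,
        PadicInt.valuation_mul (ha i) (Finset.prod_ne_zero_iff.mpr fun j _ => ha j), ih]
  rw [← hv, ← hu, PadicInt.valuation_mul hne u.ne_zero]
  have : (u : ℤ_[p]).valuation = 0 := by
    have h1 := congrArg PadicInt.valuation (Units.mul_inv u)
    rw [PadicInt.valuation_mul u.ne_zero (u⁻¹).ne_zero, PadicInt.valuation_one] at h1
    omega
  omega

end Groth.Agent.AVSubLib
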