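import Groth.Agent.AVSubLib.Component
import Groth.Agent.GrpSchLib.KernelGrp
import Groth.Agent.S12442
import Mathlib.RingTheory.Artinian.Module
import Mathlib.RingTheory.Spectrum.Prime.Topology
import Mathlib.AlgebraicGeometry.Morphisms.FlatRank

/-!
The number of rational points in the kernel of an isogeny divides its degree.
-/

set_option autoImplicit false
set_option linter.style.haveILetI false

universe u

open CategoryTheory CategoryTheory.Limits MonoidalCategory CartesianMonoidalCategory MonObj GrpObj AlgebraicGeometry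

namespace Groth.Agent.AVSubLib

/-- If automorphisms permute the points of a finite algebra transitively, their number divides the degree. -/
theorem card_algHom_dvd_finrank {k C : Type u} [Field k] [IsAlgClosed k] [CommRing C] [Algebra k C]
    [Module.Finite k C] (h : ∀ χ₁ χ₂ : C →ₐ[k] k, ∃ σ : C ≃ₐ[k] C, χ₁.comp σ.toAlgHom = χ₂) :
    Nat.card (C →ₐ[k] k) ∣ Module.finrank k C := by
  classical
  haveI : IsArtinianRing C := isArtinian_of_tower k inferInstance
  letI := Fintype.ofFinite (MaximalSpectrum C)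
  have hsurj : ∀ χ : C →ₐ[k] k, Function.Surjective χ := fun χ a => ⟨algebraMap k C a, by simp⟩
  let mk : (C →ₐ[k] k) → MaximalSpectrum C := fun χ =>
    ⟨RingHom.ker χ.toRingHom, RingHom.ker_isMaximal_of_surjective χ.toRingHom (hsurj χ)⟩
  have hmk : Function.Bijective mk := by
    refine ⟨fun χ₁ χ₂ e => AlgHom.ext fun c => ?_, fun m => ?_⟩
    · have hk : RingHom.ker χ₁.toRingHom = RingHom.ker χ₂.toRingHom := congrArg MaximalSpectrum.asIdeal e
      have h1 : c - algebraMap k C (χ₁ c) ∈ RingHom.ker χ₁.toRingHom := by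
        rw [RingHom.mem_ker]; simp
      rw [hk, RingHom.mem_ker] at h1
      change χ₂ (c - algebraMap k C (χ₁ c)) = 0 at h1
      rw [map_sub, AlgHom.commutes, sub_eq_zero] at h1
      exact h1.symm
    · haveI := m.isMaximal
      letI : Field (C ⧸ m.asIdeal) := Ideal.Quotient.field _
      haveI : Algebra.IsAlgebraic k (C ⧸ m.asIdeal) := Algebra.IsAlgebraic.of_finite k _
      let e : k ≃ₐ[k] (C ⧸ m.asIdeal) := AlgEquiv.ofBijective (Algebra.ofId k _)
        (IsAlgClosed.algebraMap_bijective_of_isIntegral (k := k))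
      refine ⟨e.symm.toAlgHom.comp (Ideal.Quotient.mkₐ k m.asIdeal), MaximalSpectrum.ext ?_⟩
      ext c
      show c ∈ RingHom.ker (e.symm.toAlgHom.comp (Ideal.Quotient.mkₐ k m.asIdeal)).toRingHom ↔ _
      rw [RingHom.mem_ker]
      show e.symm (Ideal.Quotient.mk m.asIdeal c) = 0 ↔ _
      rw [map_eq_zero_iff _ e.symm.injective, Ideal.Quotient.eq_zero_iff_mem]
  rw [Nat.card_congr (Equiv.ofBijective mk hmk), Nat.card_eq_fintype_card,
    ((MaximalSpectrum.toPiLocalizationEquiv C).restrictScalars k).toLinearEquiv.finrank_eq]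
  rcases isEmpty_or_nonempty (MaximalSpectrum C) with hE | ⟨⟨m₀⟩⟩
  · simp [MaximalSpectrum.PiLocalization, Module.finrank_pi_fintype]
  have heq : ∀ m : MaximalSpectrum C, Module.finrank k (Localization.AtPrime m.asIdeal) =
      Module.finrank k (Localization.AtPrime m₀.asIdeal) := fun m => by
    obtain ⟨χ₁, rfl⟩ := hmk.2 m
    obtain ⟨χ₂, rfl⟩ := hmk.2 m₀
    obtain ⟨σ, hσ⟩ := h χ₁ χ₂
    haveI := (mk χ₁).isMaximal.isPrime
    haveI := (mk χ₂).isMaximal.isPrime
    have hH : Submonoid.map (σ : C →* C) (mk χ₂).asIdeal.primeCompl = (mk χ₁).asIdeal.primeCompl := by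
      subst hσ
      ext x
      rw [Submonoid.mem_map]
      constructor
      · rintro ⟨y, hy, rfl⟩
        exact fun hx => hy hx
      · intro hx
        refine ⟨σ.symm x, fun hy => hx ?_, σ.apply_symm_apply x⟩
        change χ₁ (σ (σ.symm x)) = 0 at hy
        rw [σ.apply_symm_apply] at hy
        exact hy
    exact (IsLocalization.algEquivOfAlgEquiv (Localization.AtPrime (mk χ₂).asIdeal)
      (Localization.AtPrime (mk χ₁).asIdeal) σ hH).toLinearEquiv.finrank_eq.symm
  haveI : ∀ m : MaximalSpectrum C, Module.Finite k (Localization.AtPrime m.asIdeal) := fun m =>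
    Module.Finite.of_surjective (IsScalarTower.toAlgHom k C (Localization.AtPrime m.asIdeal)).toLinearMap
      (IsArtinianRing.localization_surjective m.asIdeal.primeCompl _)
  rw [show Module.finrank k (MaximalSpectrum.PiLocalization C) =
      ∑ m : MaximalSpectrum C, Module.finrank k (Localization.AtPrime m.asIdeal) from Module.finrank_pi_fintype k,
    Finset.sum_congr rfl fun m _ => heq m, Finset.sum_const, Finset.card_univ, smul_eq_mul]
  exact dvd_mul_right _ _

variable {k : Type u} [Field k] [IsAlgClosed k]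

local notation "pt₀" => (𝟙_ (Over (Spec (CommRingCat.of k))))

/-- The points of the kernel of a finite flat homomorphism divide its degree. -/
theorem card_ker_pts_dvd_finrank {X Y : Over (Spec (CommRingCat.of k))} [GrpObj X] [GrpObj Y]
    [IsSeparated Y.hom] (f : X ⟶ Y) [IsMonHom f] [IsFinite f.left] [Flat f.left] :
    Nat.card {x : pt₀ ⟶ X // x ≫ f = 1} ∣ Scheme.Hom.finrank f.left (η[Y].left (IsLocalRing.closedPoint k)) := by
  obtain ⟨N, _, i, _, _, -, hk⟩ := Groth.Agent.GrpSchLib.exists_kernel f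
  have hsq : CategoryTheory.IsPullback i.left N.hom f.left η[Y].left := IsPullback.map (Over.forget _) hk
  haveI : IsFinite N.hom := MorphismProperty.of_isPullback (P := @IsFinite) hsq inferInstance
  haveI : Flat N.hom := MorphismProperty.of_isPullback (P := @Flat) hsq inferInstance
  haveI : IsAffine N.left := isAffine_of_isAffineHom N.hom
  let C := Γ(N.left, ⊤)
  obtain ⟨φ, hφ⟩ := Spec.map_surjective (R := CommRingCat.of k) (S := CommRingCat.of C) (N.left.isoSpec.inv ≫ N.hom)
  letI : Algebra k C := φ.hom.toAlgebra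
  have h1 : IsFinite (Spec.map φ) := by rw [hφ]; infer_instance
  have hfin : Module.Finite k C := by rw [IsFinite.SpecMap_iff] at h1; exact h1
  have hrank : Module.finrank k C = Scheme.Hom.finrank f.left (η[Y].left (IsLocalRing.closedPoint k)) := by
    have e1 := Scheme.Hom.finrank_SpecMap_algebraMap k C (IsLocalRing.closedPoint k)
    rw [show CommRingCat.ofHom (algebraMap k C) = φ from rfl, hφ, Scheme.Hom.finrank_comp_left_of_isIso] at e1
    refine Eq.trans ?_ (Scheme.Hom.finrank_of_isPullback i.left N.hom f.left η[Y].left hsq (IsLocalRing.closedPoint k))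
    refine Eq.trans ?_ e1.symm
    rw [Module.rankAtStalk_eq_finrank_of_free]
    rfl
  let toN : {x : pt₀ ⟶ X // x ≫ f = 1} ≃ (pt₀ ⟶ N) :=
    { toFun := fun x => hk.lift x.1 (toUnit _) x.2
      invFun := fun n => ⟨n ≫ i, by rw [Category.assoc, hk.w, ← Category.assoc, toUnit_unique (n ≫ toUnit N) (toUnit _), MonObj.one_eq_one, MonObj.comp_one]⟩
      left_inv := fun x => Subtype.ext (hk.lift_fst _ _ _)
      right_inv := fun n => hk.hom_ext (hk.lift_fst _ _ _) (toUnit_unique _ _) }
  let toAlg : (pt₀ ⟶ N) ≃ (C →ₐ[k] k) :=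
    { toFun := fun t =>
        { (Spec.preimage (t.left ≫ N.left.isoSpec.hom)).hom with
          commutes' := fun r => by
            have h : φ ≫ Spec.preimage (t.left ≫ N.left.isoSpec.hom) = 𝟙 (CommRingCat.of k) := by
              apply Spec.map_injective
              rw [Spec.map_comp, Spec.map_preimage, hφ, Spec.map_id, Category.assoc, Iso.hom_inv_id_assoc]
              exact Over.w t
            exact congrArg (fun ψ => ψ.hom r) h }
      invFun := fun χ => Over.homMk (Spec.map (CommRingCat.ofHom χ.toRingHom) ≫ N.left.isoSpec.inv) (by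
        rw [Category.assoc, ← hφ, ← Spec.map_comp]
        refine Eq.trans (congrArg Spec.map (CommRingCat.hom_ext (RingHom.ext fun r => χ.commutes r) :
          φ ≫ CommRingCat.ofHom χ.toRingHom = 𝟙 (CommRingCat.of k))) ?_
        exact Spec.map_id _)
      left_inv := fun t => by
        apply Over.OverMorphism.ext
        show Spec.map (Spec.preimage (t.left ≫ N.left.isoSpec.hom)) ≫ N.left.isoSpec.inv = t.left
        rw [Spec.map_preimage, Category.assoc, Iso.hom_inv_id, Category.comp_id]
      right_inv := fun χ => by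
        refine AlgHom.ext fun c => ?_
        show (Spec.preimage ((Spec.map (CommRingCat.ofHom χ.toRingHom) ≫ N.left.isoSpec.inv) ≫ N.left.isoSpec.hom)).hom c = χ c
        rw [Category.assoc, Iso.inv_hom_id, Category.comp_id, Spec.preimage_map]
        rfl }
  rw [Nat.card_congr (toN.trans toAlg), ← hrank]
  refine card_algHom_dvd_finrank fun χ₁ χ₂ => ?_
  obtain ⟨a, rfl⟩ := toAlg.surjective χ₁
  obtain ⟨b, rfl⟩ := toAlg.surjective χ₂
  let τ : (pt₀ ⟶ N) → (N ⟶ N) := fun c => (toUnit N ≫ c) * 𝟙 N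
  have hτ : ∀ c d, d ≫ τ c = c * d := fun c d => by
    simp only [τ, MonObj.comp_mul, Category.comp_id]
    rw [← Category.assoc, toUnit_unique (d ≫ toUnit N) (𝟙 _), Category.id_comp]
  have hττ : ∀ c : pt₀ ⟶ N, τ c ≫ τ c⁻¹ = 𝟙 N := fun c => by
    simp only [τ, MonObj.comp_mul, Category.comp_id]
    rw [← Category.assoc, toUnit_unique (((toUnit N ≫ c) * 𝟙 N) ≫ toUnit N) (toUnit N), ← _root_.mul_assoc,
      ← MonObj.comp_mul, inv_mul_cancel, MonObj.comp_one, _root_.one_mul]
  let ρ : (N ⟶ N) → (CommRingCat.of C ⟶ CommRingCat.of C) := fun g =>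
    Spec.preimage (N.left.isoSpec.inv ≫ g.left ≫ N.left.isoSpec.hom)
  have hρ : ∀ g, Spec.map (ρ g) = N.left.isoSpec.inv ≫ g.left ≫ N.left.isoSpec.hom := fun g => Spec.map_preimage _
  have hρφ : ∀ g, φ ≫ ρ g = φ := fun g => by
    apply Spec.map_injective
    simp only [Spec.map_comp, hρ, hφ, Category.assoc, Iso.hom_inv_id_assoc, Over.w g]
  have hρρ : ∀ c : pt₀ ⟶ N, ρ (τ c⁻¹) ≫ ρ (τ c) = 𝟙 _ := fun c => by
    apply Spec.map_injective
    simp only [Spec.map_comp, hρ, Category.assoc, Iso.hom_inv_id_assoc, Spec.map_id]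
    rw [← Category.assoc (τ c).left, ← Over.comp_left, hττ, Over.id_left, Category.id_comp, Iso.inv_hom_id]
  refine ⟨AlgEquiv.ofAlgHom
      { (ρ (τ (b * a⁻¹))).hom with commutes' := fun r => congrArg (fun ψ => ψ.hom r) (hρφ _) }
      { (ρ (τ (b * a⁻¹)⁻¹)).hom with commutes' := fun r => congrArg (fun ψ => ψ.hom r) (hρφ _) }
      (AlgHom.ext fun x => congrArg (fun ψ => ψ.hom x) (hρρ (b * a⁻¹)))
      (AlgHom.ext fun x => congrArg (fun ψ : CommRingCat.of C ⟶ CommRingCat.of C => ψ.hom x)
        ((by rw [_root_.inv_inv] : ρ (τ (b * a⁻¹)) ≫ ρ (τ (b * a⁻¹)⁻¹) =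
          ρ (τ ((b * a⁻¹)⁻¹)⁻¹) ≫ ρ (τ (b * a⁻¹)⁻¹)).trans (hρρ (b * a⁻¹)⁻¹))), ?_⟩
  refine AlgHom.ext fun x => congrArg (fun ψ : CommRingCat.of C ⟶ CommRingCat.of k => ψ.hom x) ?_
  show ρ (τ (b * a⁻¹)) ≫ Spec.preimage (a.left ≫ N.left.isoSpec.hom) = Spec.preimage (b.left ≫ N.left.isoSpec.hom)
  apply Spec.map_injective
  rw [Spec.map_comp, Spec.map_preimage, Spec.map_preimage, Category.assoc, Iso.hom_inv_id_assoc,
    ← Category.assoc, ← Over.comp_left, hτ, inv_mul_cancel_right]
  exact (Spec.map_preimage _).symm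

end Groth.Agent.AVSubLib
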