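import Mathlib.AlgebraicGeometry.Sites.Fpqc
import Mathlib.AlgebraicGeometry.Morphisms.Flat
import Mathlib.CategoryTheory.Monoidal.Cartesian.Grp

/-!
Homomorphisms descend along faithfully flat homomorphisms whose kernel they kill.
-/

set_option autoImplicit false
set_option linter.style.haveILetI false

universe u

open CategoryTheory CategoryTheory.Limits MonoidalCategory CartesianMonoidalCategory MonObj GrpObj AlgebraicGeometry

namespace Groth.Agent.AVSubLib

variable {S : Scheme.{u}} {X Y Z : Over S} [GrpObj X] [GrpObj Y] [GrpObj Z]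

/-- A homomorphism killing the functorial kernel of an fpqc homomorphism factors uniquely through it. -/
theorem existsUnique_factor (f : X ⟶ Y) [IsMonHom f] [QuasiCompact f.left] [Flat f.left] [Surjective f.left]
    (ψ : X ⟶ Z) [IsMonHom ψ] (h : ∀ (T : Over S) (a : T ⟶ X), a ≫ f = 1 → a ≫ ψ = 1) :
    ∃! g : Y ⟶ Z, IsMonHom g ∧ f ≫ g = ψ := by
  haveI : Epi f.left := Flat.epi_of_flat_of_surjective f.left
  haveI : Epi f := (Over.forget S).epi_of_epi_map (inferInstanceAs (Epi f.left))
  have hagree : ∀ {W : Scheme.{u}} (g₁ g₂ : W ⟶ X.left), g₁ ≫ f.left = g₂ ≫ f.left → g₁ ≫ ψ.left = g₂ ≫ ψ.left := by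
    intro W g₁ g₂ e
    have hw : g₁ ≫ X.hom = g₂ ≫ X.hom := by rw [← Over.w f, ← Category.assoc, e, Category.assoc]
    let T : Over S := Over.mk (g₁ ≫ X.hom)
    let a : T ⟶ X := Over.homMk g₁ rfl
    let b : T ⟶ X := Over.homMk g₂ hw.symm
    have hab : a ≫ f = b ≫ f := Over.OverMorphism.ext e
    have h1 : (a * b⁻¹) ≫ ψ = 1 := h T _ (by rw [MonObj.mul_comp, GrpObj.inv_comp, hab, mul_inv_cancel])
    rw [MonObj.mul_comp, GrpObj.inv_comp, mul_inv_eq_one] at h1
    exact congrArg CommaMorphism.left h1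
  let gl : Y.left ⟶ Z.left := EffectiveEpi.desc f.left ψ.left hagree
  have hgl : f.left ≫ gl = ψ.left := EffectiveEpi.fac f.left ψ.left hagree
  let g : Y ⟶ Z := Over.homMk gl (by rw [← cancel_epi f.left, ← Category.assoc, hgl, Over.w, Over.w])
  have hg : f ≫ g = ψ := Over.OverMorphism.ext hgl
  haveI : IsMonHom g := by
    refine ⟨by rw [← IsMonHom.one_hom (f := f), Category.assoc, hg, IsMonHom.one_hom], ?_⟩
    haveI : MorphismProperty.IsStableUnderComposition @Surjective := ⟨fun f g _ _ => inferInstance⟩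
    haveI : Surjective (f ⊗ₘ f).left :=
      MorphismProperty.pullbackMap (P := @Surjective) (inferInstanceAs (Surjective f.left))
        (inferInstanceAs (Surjective f.left)) (Over.w f).symm (Over.w f).symm
    haveI : Flat (f ⊗ₘ f).left :=
      MorphismProperty.pullbackMap (P := @Flat) (inferInstanceAs (Flat f.left))
        (inferInstanceAs (Flat f.left)) (Over.w f).symm (Over.w f).symm
    haveI : Epi (f ⊗ₘ f).left := Flat.epi_of_flat_of_surjective _
    refine Over.OverMorphism.ext ((cancel_epi (f ⊗ₘ f).left).mp ?_)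
    rw [← Over.comp_left, ← Over.comp_left]
    congr 1
    rw [← Category.assoc, ← IsMonHom.mul_hom (f := f), Category.assoc, hg, IsMonHom.mul_hom, ← Category.assoc,
      tensorHom_comp_tensorHom, hg]
  exact ⟨g, ⟨inferInstance, hg⟩, fun g' hg' => (cancel_epi f).mp (hg'.2.trans hg.symm)⟩

end Groth.Agent.AVSubLib
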