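import Groth.Agent.AVSubLib.TateSeq
import Groth.Agent.AVSubLib.DetCard
import Groth.Agent.AVSubLib.PtsDegree
import Groth.Agent.TorsPtsLib.Isog
import Groth.Agent.S7790
import Groth.Agent.AVDegLib.Pull
import Groth.Agent.H23.Isogeny
import Groth.Agent.GrpSchLib.HomFlat
import Groth.Agent.GrpSchLib.SmoothReduced

/-!
The `l`-part of the degree of an isogeny is the valuation of the determinant on Tate modules.
-/

set_option autoImplicit false
set_option linter.style.haveILetI false
set_option linter.unusedSectionVars false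

universe u

open CategoryTheory CategoryTheory.Limits MonoidalCategory CartesianMonoidalCategory MonObj GrpObj AlgebraicGeometry

namespace Groth.Agent.AVSubLib

variable {k : Type u} [Field k]

section tower

variable {A B C : Over (Spec (CommRingCat.of k))} [IsIntegral A.left] [IsIntegral B.left] [IsIntegral C.left]

open AVDegLib in
/-- The degree is multiplicative. -/
theorem finrank_comp (φ : A ⟶ B) (ψ : B ⟶ C) [IsFinite φ.left] [Surjective φ.left] [IsFinite ψ.left]
    [Surjective ψ.left] [Flat φ.left] [Flat ψ.left] [LocallyOfFinitePresentation φ.left]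
    [LocallyOfFinitePresentation ψ.left] (b : B.left) (c : C.left) :
    (φ ≫ ψ).left.finrank c = ψ.left.finrank c * φ.left.finrank b := by
  haveI : IsFinite (φ ≫ ψ).left := inferInstanceAs (IsFinite (φ.left ≫ ψ.left))
  haveI : Surjective (φ ≫ ψ).left := inferInstanceAs (Surjective (φ.left ≫ ψ.left))
  haveI : Flat (φ ≫ ψ).left := inferInstanceAs (Flat (φ.left ≫ ψ.left))
  haveI : LocallyOfFinitePresentation (φ ≫ ψ).left :=
    inferInstanceAs (LocallyOfFinitePresentation (φ.left ≫ ψ.left))
  rw [finrank_eq (φ ≫ ψ) c, finrank_eq ψ c, finrank_eq φ b]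
  have hcomp : ffMap (φ ≫ ψ) = (ffMap φ).comp (ffMap ψ) := by
    refine RingHom.ext fun x => ?_
    obtain ⟨U, hU, a, rfl⟩ := C.left.presheaf.germ_exist x
    refine (ffMap_gm (φ ≫ ψ) hU a).trans ?_
    exact ((congrArg (ffMap φ) (ffMap_gm ψ hU a)).trans (ffMap_gm φ (eta_preimage ψ hU) _)).symm
  letI := ffExt φ
  letI := ffExt ψ
  letI := ffExt (φ ≫ ψ)
  haveI : IsScalarTower C.left.functionField B.left.functionField A.left.functionField :=
    IsScalarTower.of_algebraMap_eq fun x => RingHom.congr_fun hcomp x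
  exact (Module.finrank_mul_finrank C.left.functionField B.left.functionField A.left.functionField).symm

end tower

section isogeny

/-- An isogeny has a quasi-inverse isogeny. -/
theorem exists_quasiInverse (A B : Over (Spec (CommRingCat.of k))) [GrpObj A] [IsCommMonObj A] [IsProper A.hom]
    [GeometricallyIntegral A.hom] [GrpObj B] [IsCommMonObj B] [IsProper B.hom] [GeometricallyIntegral B.hom]
    (α : A ⟶ B) [IsMonHom α] [IsFinite α.left] [Surjective α.left] (b : B.left) :
    Flat α.left ∧ LocallyOfFinitePresentation α.left ∧ 1 ≤ α.left.finrank b ∧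
      ∃ (ψ : B ⟶ A) (_ : IsMonHom ψ), IsFinite ψ.left ∧ Flat ψ.left ∧ Surjective ψ.left ∧
        α ≫ ψ = 𝟙 A ^ (α.left.finrank b) ∧ ψ ≫ α = 𝟙 B ^ (α.left.finrank b) := by
  haveI : IsIntegral A.left := GeometricallyIntegral.isIntegral_of_subsingleton A.hom
  haveI : IsIntegral B.left := GeometricallyIntegral.isIntegral_of_subsingleton B.hom
  haveI : Smooth A.hom := Groth.Agent.S7795.result A
  haveI : Smooth B.hom := Groth.Agent.S7795.result B
  haveI : Flat α.left := Groth.Agent.GrpSchLib.flat_of_surjective_hom α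
  haveI : GeometricallyConnected A.hom := TorsPtsLib.geometricallyConnected A.hom
  haveI : GeometricallyConnected B.hom := TorsPtsLib.geometricallyConnected B.hom
  haveI : LocallyOfFinitePresentation (α.left ≫ B.hom) := by rw [Over.w α]; infer_instance
  haveI : LocallyOfFinitePresentation α.left := Groth.Agent.S12442.locallyOfFinitePresentation_of_comp α.left B.hom
  have hconst : ∀ y : B.left, α.left.finrank y = α.left.finrank b := fun y =>
    α.left.isLocallyConstant_finrank.apply_eq_of_preconnectedSpace _ _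
  have h1 : 1 ≤ α.left.finrank b := by
    obtain ⟨a, rfl⟩ := α.left.surjective b
    exact α.left.one_le_finrank_map a
  obtain ⟨⟨g, ⟨hg, hfg⟩, -⟩, hall⟩ := Groth.Agent.S7790.result A B α (α.left.finrank b) h1 fun s => hconst _
  obtain ⟨h2, h3, h4, h5⟩ := hall g hg hfg
  exact ⟨inferInstance, inferInstance, h1, g, hg, h3, h4, h5, hfg, h2⟩

end isogeny

section det

variable [IsAlgClosed k] (l : ℕ) [Fact l.Prime]

local notation "pt₀" => (𝟙_ (Over (Spec (CommRingCat.of k))))

/-- `v(det) ≤ v(deg)`. -/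
theorem valuation_le (hl : (l : k) ≠ 0) (A B : Over (Spec (CommRingCat.of k))) [GrpObj A] [IsCommMonObj A]
    [IsProper A.hom] [GeometricallyIntegral A.hom] [GrpObj B] [IsCommMonObj B] [IsProper B.hom]
    [GeometricallyIntegral B.hom] (α : A ⟶ B) [IsMonHom α] [IsFinite α.left] [Surjective α.left]
    {σ : Type*} [Fintype σ] [DecidableEq σ]
    (bA : Module.Basis σ ℤ_[l] (AbDual.TateMod A l pt₀)) (bB : Module.Basis σ ℤ_[l] (AbDual.TateMod B l pt₀))
    (b : B.left) :
    (LinearMap.toMatrix bA bB (AbDual.tateMapₗ (l := l) (T := pt₀) α)).det ≠ 0 ∧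
      (LinearMap.toMatrix bA bB (AbDual.tateMapₗ (l := l) (T := pt₀) α)).det.valuation ≤
        padicValNat l (α.left.finrank b) := by
  obtain ⟨hflat, hlfp, h1, -⟩ := exists_quasiInverse A B α b
  haveI := hflat
  haveI := hlfp
  haveI : IsIntegral B.left := GeometricallyIntegral.isIntegral_of_subsingleton B.hom
  have hsurj : ∀ y : pt₀ ⟶ B, ∃ x : pt₀ ⟶ A, x ≫ α = y := TorsPtsLib.exists_lift_point (𝟙 _) α
  haveI hK : Finite (kerPts pt₀ α) := TorsPtsLib.finite_fibre_points (𝟙 (Spec (CommRingCat.of k))) α 1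
  obtain ⟨hinj, ⟨e⟩⟩ := tate_sequence pt₀ l α hsurj (TorsPtsLib.exists_pow_eq A l (Fact.out : l.Prime).one_le)
  obtain ⟨hne, hcard⟩ := card_coker bA bB _ hinj
  refine ⟨hne, ?_⟩
  have hdvd : l ^ (LinearMap.toMatrix bA bB (AbDual.tateMapₗ (l := l) (T := pt₀) α)).det.valuation ∣ α.left.finrank b := by
    rw [← hcard, Nat.card_congr e.toEquiv]
    refine dvd_trans ?_ (((α.left.isLocallyConstant_finrank.apply_eq_of_preconnectedSpace
      (η[B].left (IsLocalRing.closedPoint k)) b)) ▸ card_ker_pts_dvd_finrank α)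
    refine dvd_trans ?_ (dvd_refl (Nat.card (kerPts pt₀ α)))
    exact Subgroup.card_subgroup_dvd_card (CommGroup.primaryComponent (kerPts pt₀ α) l)
  exact (padicValNat_dvd_iff_le (by omega)).mp hdvd

/-- `v(deg) = v(det)`. -/
theorem valuation_eq (hl : (l : k) ≠ 0) (A B : Over (Spec (CommRingCat.of k))) [GrpObj A] [IsCommMonObj A]
    [IsProper A.hom] [GeometricallyIntegral A.hom] [GrpObj B] [IsCommMonObj B] [IsProper B.hom]
    [GeometricallyIntegral B.hom] {r : ℕ} (hrA : topologicalKrullDim A.left = r)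
    (α : A ⟶ B) [IsMonHom α] [IsFinite α.left] [Surjective α.left]
    (bA : Module.Basis (Fin (2 * r)) ℤ_[l] (AbDual.TateMod A l pt₀))
    (bB : Module.Basis (Fin (2 * r)) ℤ_[l] (AbDual.TateMod B l pt₀)) (b : B.left) :
    padicValNat l (α.left.finrank b) =
      (LinearMap.toMatrix bA bB (AbDual.tateMapₗ (l := l) (T := pt₀) α)).det.valuation := by
  haveI : IsIntegral A.left := GeometricallyIntegral.isIntegral_of_subsingleton A.hom
  haveI : IsIntegral B.left := GeometricallyIntegral.isIntegral_of_subsingleton B.hom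
  obtain ⟨hflat, hlfp, h1, ψ, hψ, hψf, hψfl, hψs, hcomp, -⟩ := exists_quasiInverse A B α b
  haveI := hflat
  haveI := hlfp
  haveI := hψ
  haveI := hψf
  haveI := hψfl
  haveI := hψs
  let a : A.left := η[A].left (IsLocalRing.closedPoint k)
  haveI : LocallyOfFinitePresentation (ψ.left ≫ A.hom) := by rw [Over.w ψ]; infer_instance
  haveI : LocallyOfFinitePresentation ψ.left := Groth.Agent.S12442.locallyOfFinitePresentation_of_comp ψ.left A.hom
  set n := α.left.finrank b with hn
  obtain ⟨hne1, hle1⟩ := valuation_le l hl A B α bA bB b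
  obtain ⟨hne2, hle2⟩ := valuation_le l hl B A ψ bB bA a
  have hdeg : ψ.left.finrank a * n = n ^ (2 * r) := by
    rw [hn, ← finrank_comp α ψ b a, ← hn, hcomp, ← zpow_natCast, AVDegLib.finrank_zpow hrA _ (by omega) a,
      Int.natAbs_natCast]
  have hTn : AbDual.tateMapₗ (l := l) (T := pt₀) ψ ∘ₗ AbDual.tateMapₗ (l := l) (T := pt₀) α =
      (n : ℤ_[l]) • LinearMap.id := by
    refine LinearMap.ext fun x => AbDual.TateMod.ext fun m => ?_
    show Additive.ofMul ((comp pt₀ l x m ≫ α) ≫ ψ) = (((n : ℤ_[l]) • x : AbDual.TateMod A l pt₀) : ℕ → _) m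
    rw [Nat.cast_smul_eq_nsmul, Category.assoc, hcomp, MonObj.comp_pow, Category.comp_id]
    rfl
  have hdet : (LinearMap.toMatrix bB bA (AbDual.tateMapₗ (l := l) (T := pt₀) ψ)).det *
      (LinearMap.toMatrix bA bB (AbDual.tateMapₗ (l := l) (T := pt₀) α)).det = (n : ℤ_[l]) ^ (2 * r) := by
    rw [← Matrix.det_mul, ← LinearMap.toMatrix_comp, hTn, map_smul, LinearMap.toMatrix_id, Matrix.det_smul,
      Matrix.det_one, _root_.mul_one, Fintype.card_fin]
  have hv := congrArg PadicInt.valuation hdet
  rw [PadicInt.valuation_mul hne2 hne1, PadicInt.valuation_pow] at hv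
  have hcast : ((n : ℤ_[l])).valuation = padicValNat l n := by
    apply Int.ofNat_inj.mp
    rw [← PadicInt.valuation_coe, PadicInt.coe_natCast, Padic.valuation_natCast]
  have hv2 := congrArg (padicValNat l) hdeg
  have hψn : ψ.left.finrank a ≠ 0 := fun h0 => by
    rw [h0, zero_mul] at hdeg
    exact (pow_ne_zero _ (by omega : n ≠ 0)) hdeg.symm
  rw [padicValNat.mul hψn (by omega), padicValNat.pow] at hv2
  rw [hcast] at hv
  rw [← hn] at hle1
  omega

end det

end Groth.Agent.AVSubLib
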