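import Groth.Agent.AVSubLib.Component
import Groth.Agent.TorsPtsLib.TateLift
import Groth.Agent.H23.Isogeny
import Groth.Agent.GrpSchLib.HomFinite

/-!
Prime power torsion detects abelian subvarieties.
-/

set_option autoImplicit false
set_option linter.style.haveILetI false

universe u

open CategoryTheory CategoryTheory.Limits MonoidalCategory CartesianMonoidalCategory MonObj GrpObj AlgebraicGeometry
open Groth.Agent.GrpSchLib

namespace Groth.Agent.AVSubLib

variable {k : Type u} [Field k] [IsAlgClosed k]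

local notation "pt₀" => (𝟙_ (Over (Spec (CommRingCat.of k))))
local notation "c₀" => IsLocalRing.closedPoint k

/-- Torsion counting against a subgroup of finite index. -/
theorem card_tors_le_mul {S : Scheme.{u}} (T : Over S) {A C : Over S} [GrpObj A] [IsCommMonObj A] [GrpObj C]
    [IsCommMonObj C] (j : C ⟶ A) [IsMonHom j] (hj : ∀ a b : T ⟶ C, a ≫ j = b ≫ j → a = b) (N : ℕ)
    [Finite (AbDual.torsPts C N T)]
    (F : Finset (T ⟶ A)) (hF : ∀ x : T ⟶ A, x ^ N = 1 → ∃ f ∈ F, ∃ y : T ⟶ C, x = f * (y ≫ j)) :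
    Nat.card (AbDual.torsPts A N T) ≤ F.card * Nat.card (AbDual.torsPts C N T) := by
  classical
  have hsel : ∀ x : AbDual.torsPts A N T, ∃ f : F, ∃ y : T ⟶ C, (x : T ⟶ A) = f.1 * (y ≫ j) := fun x => by
    obtain ⟨f, hf, h⟩ := hF x.1 x.2
    exact ⟨⟨f, hf⟩, h⟩
  choose fl y hy using hsel
  let base : F → (T ⟶ C) := fun f => if h : ∃ x, fl x = f then y h.choose else 1
  let Ψ : AbDual.torsPts A N T → F × AbDual.torsPts C N T := fun x =>
    (fl x, ⟨y x * (base (fl x))⁻¹, by
      show (y x * (base (fl x))⁻¹) ^ N = 1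
      refine hj _ _ ?_
      have h : ∃ x', fl x' = fl x := ⟨x, rfl⟩
      have e : (y x * (base (fl x))⁻¹) ≫ j = (x : T ⟶ A) * (h.choose : T ⟶ A)⁻¹ := by
        rw [hy x, hy h.choose, h.choose_spec, MonObj.mul_comp, GrpObj.inv_comp]
        simp only [base, dif_pos h]
        rw [_root_.mul_inv_rev, mul_comm (y h.choose ≫ j)⁻¹, _root_.mul_mul_mul_comm, _root_.mul_inv_cancel, _root_.one_mul]
      rw [MonObj.pow_comp, e, mul_pow, inv_pow, show (x : T ⟶ A) ^ N = 1 from x.2,
        show (h.choose : T ⟶ A) ^ N = 1 from h.choose.2, inv_one, _root_.mul_one, MonObj.one_comp]⟩)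
  have hinj : Function.Injective Ψ := fun x x' h => by
    obtain ⟨h1, h2⟩ := Prod.ext_iff.mp h
    have h1' : fl x = fl x' := h1
    have h3 : y x * (base (fl x))⁻¹ = y x' * (base (fl x'))⁻¹ := congrArg Subtype.val h2
    rw [h1', mul_left_inj] at h3
    exact Subtype.ext (by rw [hy x, hy x', h1', h3])
  refine (Nat.card_le_card_of_injective Ψ hinj).trans_eq ?_
  rw [Nat.card_prod, Nat.card_eq_finsetCard]

theorem le_of_pow_le {l : ℕ} (hl : 1 < l) {g c m : ℕ} (h : ∀ n : ℕ, (l ^ n) ^ (2 * g) ≤ m * (l ^ n) ^ (2 * c)) :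
    g ≤ c := by
  by_contra hc
  obtain ⟨n, hn⟩ := pow_unbounded_of_one_lt m hl
  have h1 := h n
  have h2 : (l ^ n) ^ (2 * c) * (l ^ n) ≤ (l ^ n) ^ (2 * g) := by
    rw [← pow_succ]
    exact Nat.pow_le_pow_right (Nat.pow_pos (Nat.lt_of_lt_of_le Nat.zero_lt_one hl.le)) (by omega)
  have h3 : 0 < (l ^ n) ^ (2 * c) := Nat.pow_pos (Nat.pow_pos (Nat.lt_of_lt_of_le Nat.zero_lt_one hl.le))
  nlinarith

variable (A : Over (Spec (CommRingCat.of k))) [GrpObj A] [IsProper A.hom] [GeometricallyIntegral A.hom]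

/-- An abelian subvariety whose translates contain all `l`-power torsion is everything. -/
theorem isIso_of_tors [IsCommMonObj A] (l : ℕ) [Fact l.Prime] (hl : (l : k) ≠ 0)
    (C : Over (Spec (CommRingCat.of k))) [GrpObj C] [IsProper C.hom] [GeometricallyIntegral C.hom]
    (j : C ⟶ A) [IsMonHom j] [IsClosedImmersion j.left] (F : Finset (pt₀ ⟶ A))
    (hF : ∀ n : ℕ, ∀ x : pt₀ ⟶ A, x ^ l ^ n = 1 → ∃ f ∈ F, ∃ y : pt₀ ⟶ C, x = f * (y ≫ j)) :
    IsIso j := by
  haveI : IsCommMonObj C := isCommMonObj_of_isProper_of_geometricallyIntegral _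
  obtain ⟨g, hg⟩ := Groth.Agent.TorsPtsLib.exists_dim A
  obtain ⟨c, hc⟩ := Groth.Agent.TorsPtsLib.exists_dim C
  haveI : Mono j.left := inferInstance
  haveI : Mono j := (Over.forget _).mono_of_mono_map (inferInstanceAs (Mono j.left))
  have hgc : g ≤ c := le_of_pow_le (Fact.out : l.Prime).one_lt (m := F.card) fun n => by
    have hN : ((l ^ n : ℕ) : k) ≠ 0 := by rw [Nat.cast_pow]; exact pow_ne_zero n hl
    rw [← Groth.Agent.TorsPtsLib.card_tors k A hg hN, ← Groth.Agent.TorsPtsLib.card_tors k C hc hN]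
    haveI : Finite (AbDual.torsPts C (l ^ n) pt₀) := Nat.finite_of_card_ne_zero (by
      rw [Groth.Agent.TorsPtsLib.card_tors k C hc hN]
      exact pow_ne_zero _ (pow_ne_zero _ (Fact.out : l.Prime).ne_zero))
    exact card_tors_le_mul pt₀ j (fun a b h => (cancel_mono j).mp h) (l ^ n) F (hF n)
  have hle : c ≤ g := by
    have h := j.left.isClosedEmbedding.isInducing.topologicalKrullDim_le
    rw [hg, hc] at h
    exact_mod_cast h
  haveI : IsIntegral A.left := GeometricallyIntegral.isIntegral_of_subsingleton A.hom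
  haveI : IsIntegral C.left := GeometricallyIntegral.isIntegral_of_subsingleton C.hom
  haveI : Surjective j.left := Groth.Agent.H23.Isogeny.surjective_of_isFinite C.hom A.hom j.left (Over.w j)
    (by rw [hg, hc, le_antisymm hgc hle])
  haveI : IsIso j.left := isIso_of_isClosedImmersion_of_surjective j.left
  haveI : IsIso ((Over.forget (Spec (CommRingCat.of k))).map j) := inferInstanceAs (IsIso j.left)
  exact isIso_of_reflects_iso j (Over.forget _)

/-- A homomorphism killing all `l`-power torsion is trivial. -/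
theorem eq_one_of_kills [IsCommMonObj A] (l : ℕ) [Fact l.Prime] (hl : (l : k) ≠ 0)
    (B : Over (Spec (CommRingCat.of k))) [GrpObj B] [IsSeparated B.hom] (φ : A ⟶ B) [IsMonHom φ]
    (h : ∀ n : ℕ, ∀ x : pt₀ ⟶ A, x ^ l ^ n = 1 → x ≫ φ = 1) : φ = 1 := by
  obtain ⟨C, iC, hp, hgi, j, hj, hjc, hjφ, F, hF⟩ := exists_ker_component A B φ
  haveI := isIso_of_tors A l hl C j F fun n x hx => hF x (h n x hx)
  rw [← cancel_epi j, hjφ, MonObj.comp_one]

/-- A homomorphism with injective Tate map is finite. -/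
theorem isFinite_of_injective [IsCommMonObj A] (l : ℕ) [Fact l.Prime] (hl : (l : k) ≠ 0)
    (B : Over (Spec (CommRingCat.of k))) [GrpObj B] [IsCommMonObj B] [IsProper B.hom] (φ : A ⟶ B) [IsMonHom φ]
    (h : Function.Injective (AbDual.tateMapₗ (l := l) (T := pt₀) φ)) :
    IsFinite φ.left := by
  obtain ⟨C, iC, hp, hgi, j, hj, hjc, hjφ, F, hF⟩ := exists_ker_component A B φ
  haveI : IsCommMonObj C := isCommMonObj_of_isProper_of_geometricallyIntegral _
  obtain ⟨c, hc⟩ := Groth.Agent.TorsPtsLib.exists_dim C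
  obtain ⟨-, -, hrank⟩ := Groth.Agent.TorsPtsLib.tateMod_structure k C l hl hc
  haveI : Mono j.left := inferInstance
  haveI : Mono j := (Over.forget _).mono_of_mono_map (inferInstanceAs (Mono j.left))
  have hz : ∀ t : AbDual.TateMod C l pt₀, t = 0 := fun t => by
    have h0 : AbDual.tateMapₗ (l := l) (T := pt₀) j t = 0 := h (by
      rw [map_zero]
      exact AbDual.TateMod.ext fun n => congrArg Additive.ofMul
        (show (((t : ℕ → Additive (pt₀ ⟶ C)) n).toMul ≫ j) ≫ φ = 1 by
          rw [Category.assoc, hjφ, MonObj.comp_one]))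
    refine AbDual.TateMod.ext fun n => congrArg Additive.ofMul ((cancel_mono j).mp ?_)
    exact (congrArg (fun s : AbDual.TateMod A l pt₀ => ((s : ℕ → Additive (pt₀ ⟶ A)) n).toMul) h0).trans
      (MonObj.one_comp j).symm
  have hc0 : c = 0 := by
    haveI : Subsingleton (AbDual.TateMod C l pt₀) := ⟨fun a b => by rw [hz a, hz b]⟩
    rw [Module.finrank_zero_of_subsingleton] at hrank
    omega
  haveI : IsIntegral C.left := GeometricallyIntegral.isIntegral_of_subsingleton C.hom
  haveI : Subsingleton C.left := by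
    have hd := (Groth.Agent.VarDim.topologicalKrullDim_eq_deg_genericPoint C.hom).symm.trans hc
    rw [hc0] at hd
    have hd0 : Groth.Agent.VarDim.deg C.hom (genericPoint C.left) = 0 := by exact_mod_cast hd
    have key : ∀ x : C.left, x = genericPoint C.left := fun x =>
      (Groth.Agent.VarDim.eq_of_specializes_of_deg_le C.hom (genericPoint_specializes x) (hd0 ▸ Nat.zero_le _)).symm
    exact ⟨fun x y => (key x).trans (key y).symm⟩
  classical
  haveI : IsProper φ.left := by
    haveI : IsProper (φ.left ≫ B.hom) := by rw [Over.w φ]; infer_instance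
    exact IsProper.of_comp φ.left B.hom
  have hfin : (φ.left ⁻¹' {η[B].left c₀}).Finite := by
    have hS : IsClosed (φ.left ⁻¹' {η[B].left c₀}) := (isClosed_pt η[B]).preimage φ.left.continuous
    haveI : JacobsonSpace A.left := LocallyOfFiniteType.jacobsonSpace A.hom
    have hsub : (φ.left ⁻¹' {η[B].left c₀}) ∩ closedPoints A.left ⊆
        (F : Set (pt₀ ⟶ A)).image (fun f => f.left c₀) := fun a ⟨ha1, ha2⟩ => by
      obtain ⟨x, rfl⟩ := exists_pt ha2
      have hx : x ≫ φ = 1 := pt_ext (by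
        rw [show ((1 : pt₀ ⟶ B)).left c₀ = η[B].left c₀ by rw [show (1 : pt₀ ⟶ B) = η[B] by rw [MonObj.one_eq_one]]]
        exact ha1)
      obtain ⟨f, hf, y, hy⟩ := hF x hx
      refine ⟨f, hf, ?_⟩
      rw [hy, pt_ext (a := y) (b := 1) (Subsingleton.elim _ _), MonObj.one_comp, _root_.mul_one]
    have hfin' := Set.Finite.subset (F.finite_toSet.image _) hsub
    have hclosed : IsClosed ((φ.left ⁻¹' {η[B].left c₀}) ∩ closedPoints A.left) := by
      rw [← Set.biUnion_of_singleton ((φ.left ⁻¹' {η[B].left c₀}) ∩ closedPoints A.left)]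
      exact hfin'.isClosed_biUnion fun a ha => ha.2
    rw [← JacobsonSpace.closure_inter_closedPoints_eq_closure hS.isLocallyClosed |>.trans hS.closure_eq,
      hclosed.closure_eq]
    exact hfin'
  haveI := Groth.Agent.GrpSchLib.HomFinite.locallyQuasiFinite_of_finite_preimage φ hfin
  exact IsFinite.of_isProper_of_locallyQuasiFinite φ.left

end Groth.Agent.AVSubLib
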