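import Groth.Agent.GrpSchLib.RedSubgroup
import Groth.Agent.GrpSchLib.ReducedPoints
import Groth.Agent.GrpSchLib.KernelGrp
import Groth.Agent.H23.MaxAbelian

/-!
The abelian subvariety of finite index in a closed subgroup of an abelian variety.
-/

set_option autoImplicit false
set_option linter.style.haveILetI false

universe u

open CategoryTheory CategoryTheory.Limits MonoidalCategory CartesianMonoidalCategory MonObj GrpObj AlgebraicGeometry
open Groth.Agent.GrpSchLib

namespace Groth.Agent.AVSubLib

variable {k : Type u} [Field k] [IsAlgClosed k]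

local notation "pt₀" => (𝟙_ (Over (Spec (CommRingCat.of k))))
local notation "c₀" => IsLocalRing.closedPoint k

/-- Two rational points with the same image are equal. -/
theorem pt_ext {X : Over (Spec (CommRingCat.of k))} [LocallyOfFiniteType X.hom] {a b : pt₀ ⟶ X}
    (h : a.left c₀ = b.left c₀) : a = b :=
  Over.OverMorphism.ext (ext_of_apply_closedPoint_eq X.hom (Over.w a) (Over.w b) h)

/-- Every closed point is the image of a rational point. -/
theorem exists_pt {X : Over (Spec (CommRingCat.of k))} [LocallyOfFiniteType X.hom] {x : X.left}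
    (hx : IsClosed ({x} : Set X.left)) : ∃ a : pt₀ ⟶ X, a.left c₀ = x :=
  ⟨Over.homMk (pointOfClosedPoint X.hom x hx) (pointOfClosedPoint_comp X.hom x hx),
    pointOfClosedPoint_apply X.hom x hx _⟩

/-- The image of a rational point is closed. -/
theorem isClosed_pt {X : Over (Spec (CommRingCat.of k))} [LocallyOfFiniteType X.hom] (a : pt₀ ⟶ X) :
    IsClosed ({a.left c₀} : Set X.left) :=
  ((pointEquivClosedPoint X.hom) ⟨a.left, Over.w a⟩).2

/-- A compact noetherian space has finitely many connected components. -/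
theorem finite_components (X : Type u) [TopologicalSpace X] [TopologicalSpace.NoetherianSpace X] :
    Finite (ConnectedComponents X) := by
  haveI : Finite ↥(irreducibleComponents X) :=
    TopologicalSpace.NoetherianSpace.finite_irreducibleComponents.to_subtype
  have hne : ∀ Z : ↥(irreducibleComponents X), (Z.1 : Set X).Nonempty := fun Z => Z.2.1.nonempty
  refine Finite.of_surjective (fun Z : ↥(irreducibleComponents X) => ConnectedComponents.mk (hne Z).some) fun c => ?_
  obtain ⟨x, rfl⟩ := ConnectedComponents.surjective_coe c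
  refine ⟨⟨irreducibleComponent x, irreducibleComponent_mem_irreducibleComponents x⟩, ?_⟩
  exact ConnectedComponents.coe_eq_coe'.mpr
    (irreducibleComponent_subset_connectedComponent (Set.Nonempty.some_mem _))

/-- A closed subgroup of an abelian variety contains an abelian subvariety of finite index. -/
theorem exists_component (A N : Over (Spec (CommRingCat.of k))) [GrpObj A] [GrpObj N] [IsProper A.hom]
    [GeometricallyIntegral A.hom] (i : N ⟶ A) [IsMonHom i] [IsClosedImmersion i.left] :
    ∃ (C : Over (Spec (CommRingCat.of k))) (_ : GrpObj C) (_ : IsProper C.hom) (_ : GeometricallyIntegral C.hom)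
      (j : C ⟶ A) (_ : IsMonHom j) (c : C ⟶ N), IsClosedImmersion j.left ∧ c ≫ i = j ∧
      ∃ F : Finset (pt₀ ⟶ A), ∀ x : pt₀ ⟶ N, ∃ f ∈ F, ∃ y : pt₀ ⟶ C, x ≫ i = f * (y ≫ j) := by
  classical
  haveI : IsProper N.hom := by
    rw [← Over.w i]
    infer_instance
  haveI : IsLocallyNoetherian N.left := LocallyOfFiniteType.isLocallyNoetherian N.hom
  haveI : CompactSpace N.left := QuasiCompact.compactSpace_of_compactSpace N.hom
  haveI : AlgebraicGeometry.IsNoetherian N.left := ⟨⟩
  obtain ⟨G₀, _, incl, _, hic, -, hrange, hirr, hcpt⟩ := exists_identityComponent (G := N)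
  haveI : IsProper G₀.hom := by
    rw [← Over.w incl]
    infer_instance
  obtain ⟨C, _, ρ, _, hρc, hred, hρs, -, -⟩ := RedSubgroup.exists_redSubgroup G₀
  haveI : IsProper C.hom := by
    rw [← Over.w ρ]
    infer_instance
  let c : C ⟶ N := ρ ≫ incl
  haveI : IsMonHom c := inferInstance
  have hcr : Set.range c.left = connectedComponent (η[N].left c₀) := by
    rw [← hrange]
    exact hρs.surj.range_comp incl.left
  haveI : GeometricallyReduced C.hom :=
    ⟨fun K _ y P fst snd h => by
      haveI : IsReduced (pullback C.hom y) := isReduced_pullback_of_perfectField C.hom y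
      exact isReduced_of_isOpenImmersion h.isoPullback.hom⟩
  haveI : IsClosedImmersion c.left := inferInstanceAs (IsClosedImmersion (ρ.left ≫ incl.left))
  haveI : ConnectedSpace C.left := by
    have hne : Nonempty C.left := ⟨η[C].left c₀⟩
    refine { isPreconnected_univ := ?_, toNonempty := hne }
    rw [c.left.isClosedEmbedding.isInducing.isPreconnected_image.symm, Set.image_univ, hcr]
    exact isPreconnected_connectedComponent
  haveI := Groth.Agent.H23.MaxAbelian.geometricallyIntegral_of_connected C
  let j : C ⟶ A := c ≫ i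
  refine ⟨C, inferInstance, inferInstance, inferInstance, j, inferInstance, c,
    inferInstanceAs (IsClosedImmersion (c.left ≫ i.left)), rfl, ?_⟩
  haveI := finite_components N.left
  let comp : (pt₀ ⟶ N) → ConnectedComponents N.left := fun x => ConnectedComponents.mk (x.left c₀)
  have hsec : ∀ q : Set.range comp, ∃ x : pt₀ ⟶ N, comp x = q.1 := fun q => q.2
  choose rep hrep using hsec
  haveI : Fintype (Set.range comp) := Fintype.ofFinite _
  refine ⟨Finset.univ.image fun q => rep q ≫ i, fun x => ?_⟩
  let q : Set.range comp := ⟨comp x, x, rfl⟩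
  refine ⟨rep q ≫ i, Finset.mem_image_of_mem _ (Finset.mem_univ q), ?_⟩
  let t : N ⟶ N := (toUnit N ≫ (rep q)⁻¹) * 𝟙 N
  have ht : ∀ z : pt₀ ⟶ N, (z ≫ t).left c₀ = t.left (z.left c₀) := fun z => rfl
  have hconn : x.left c₀ ∈ connectedComponent ((rep q).left c₀) :=
    ConnectedComponents.coe_eq_coe'.mp (hrep q).symm
  have himg : t.left (x.left c₀) ∈ connectedComponent (t.left ((rep q).left c₀)) :=
    t.left.continuous.image_connectedComponent_subset _ ⟨_, hconn, rfl⟩
  have e : ∀ z : pt₀ ⟶ N, z ≫ t = (rep q)⁻¹ * z := fun z => by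
    simp only [t, MonObj.comp_mul, Category.comp_id]
    rw [← Category.assoc, toUnit_unique (z ≫ toUnit N) (𝟙 _), Category.id_comp]
  rw [← ht, ← ht, e, e, inv_mul_cancel] at himg
  have h1 : ((1 : pt₀ ⟶ N)).left c₀ = η[N].left c₀ := by
    rw [show (1 : pt₀ ⟶ N) = η[N] by rw [MonObj.one_eq_one]]
  rw [h1, ← hcr] at himg
  obtain ⟨w, hw⟩ := himg
  have hwc : IsClosed ({w} : Set C.left) := by
    have h := (isClosed_pt ((rep q)⁻¹ * x)).preimage c.left.continuous
    rw [← hw] at h
    convert h using 1
    exact (Set.preimage_image_eq {w} c.left.isEmbedding.injective).symm.trans (by rw [Set.image_singleton])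
  obtain ⟨y, hy⟩ := exists_pt hwc
  have hyc : y ≫ c = (rep q)⁻¹ * x := pt_ext (by rw [← hw, ← hy]; rfl)
  refine ⟨y, ?_⟩
  rw [show y ≫ j = (y ≫ c) ≫ i from (Category.assoc _ _ _).symm, hyc, ← MonObj.mul_comp, mul_inv_cancel_left]

/-- The kernel of a homomorphism of abelian varieties contains an abelian subvariety of finite index. -/
theorem exists_ker_component (A B : Over (Spec (CommRingCat.of k))) [GrpObj A] [GrpObj B] [IsProper A.hom]
    [GeometricallyIntegral A.hom] [IsSeparated B.hom] (φ : A ⟶ B) [IsMonHom φ] :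
    ∃ (C : Over (Spec (CommRingCat.of k))) (_ : GrpObj C) (_ : IsProper C.hom) (_ : GeometricallyIntegral C.hom)
      (j : C ⟶ A) (_ : IsMonHom j), IsClosedImmersion j.left ∧ j ≫ φ = 1 ∧
      ∃ F : Finset (pt₀ ⟶ A), ∀ x : pt₀ ⟶ A, x ≫ φ = 1 → ∃ f ∈ F, ∃ y : pt₀ ⟶ C, x = f * (y ≫ j) := by
  obtain ⟨N, _, i, hi, hic, -, hk⟩ := exists_kernel φ
  obtain ⟨C, iC, hp, hgi, j, hj, c, hjc, rfl, F, hF⟩ := exists_component A N i
  have hiφ : i ≫ φ = 1 := hk.w
  refine ⟨C, iC, hp, hgi, _, hj, hjc, by rw [Category.assoc, hiφ, MonObj.comp_one], F, fun x hx => ?_⟩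
  obtain ⟨f, hf, y, hy⟩ := hF (hk.lift x (toUnit _) hx)
  rw [hk.lift_fst] at hy
  exact ⟨f, hf, y, hy⟩

end Groth.Agent.AVSubLib
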