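import Groth.Agent.AVSubLib.Torsion

/-!
Homomorphisms are determined on geometric prime power torsion, over any base field.
-/

set_option autoImplicit false
set_option linter.style.haveILetI false

universe u

open CategoryTheory CategoryTheory.Limits MonoidalCategory CartesianMonoidalCategory MonObj GrpObj AlgebraicGeometry
open Groth.Agent.TorsPtsLib

namespace Groth.Agent.AVSubLib

variable {k : Type u} [Field k] {Ω : Type u} [Field Ω] [Algebra k Ω] [IsAlgClosed Ω]
  (A B : Over (Spec (CommRingCat.of k))) [GrpObj A] [IsCommMonObj A] [IsProper A.hom] [GeometricallyIntegral A.hom]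
  [GrpObj B] [IsCommMonObj B] [IsProper B.hom]

local notation "σ" => Spec.map (CommRingCat.ofHom (algebraMap k Ω))
local notation "pΩ" => Over.mk (Spec.map (CommRingCat.ofHom (algebraMap k Ω)))

theorem eq_one_of_kills_geom (l : ℕ) [Fact l.Prime] (hl : (l : k) ≠ 0) (φ : A ⟶ B) [IsMonHom φ]
    (h : ∀ n : ℕ, ∀ x : pΩ ⟶ A, x ^ l ^ n = 1 → x ≫ φ = 1) : φ = 1 := by
  letI : GrpObj ((Over.pullback σ).obj A) := Functor.grpObjObj
  letI : GrpObj ((Over.pullback σ).obj B) := Functor.grpObjObj
  haveI : IsProper ((Over.pullback σ).obj A).hom := inferInstanceAs (IsProper (pullback.snd A.hom σ))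
  haveI : GeometricallyIntegral ((Over.pullback σ).obj A).hom :=
    inferInstanceAs (GeometricallyIntegral (pullback.snd A.hom σ))
  haveI : IsProper ((Over.pullback σ).obj B).hom := inferInstanceAs (IsProper (pullback.snd B.hom σ))
  haveI : IsCommMonObj ((Over.pullback σ).obj A) := isCommMonObj_of_isProper_of_geometricallyIntegral _
  have hnat : ∀ a : pΩ ⟶ A, toBC σ B (a ≫ φ) = toBC σ A a ≫ (Over.pullback σ).map φ := fun a => by
    rw [toBC_eq σ A a, toBC_eq σ B (a ≫ φ), Functor.map_comp, Category.assoc]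
  have hl' : (l : Ω) ≠ 0 := by
    rw [← map_natCast (algebraMap k Ω)]
    exact (map_ne_zero _).mpr hl
  have hone : (Over.pullback σ).map φ = 1 := eq_one_of_kills _ l hl' _ _ fun n y hy => by
    obtain ⟨a, rfl⟩ : ∃ a, bcPtsEquiv σ A a = y := ⟨_, (bcPtsEquiv σ A).apply_symm_apply y⟩
    rw [← map_pow, MulEquiv.map_eq_one_iff] at hy
    exact (hnat a).symm.trans ((congrArg (toBC σ B) (h n a hy)).trans (map_one (bcPtsEquiv σ B)))
  have hpts : ∀ a : pΩ ⟶ A, a ≫ φ = 1 := fun a => by
    refine (bcPtsEquiv σ B).injective ?_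
    rw [map_one]
    exact (hnat a).trans (by rw [hone, MonObj.comp_one])
  haveI : IsIntegral A.left := GeometricallyIntegral.isIntegral_of_subsingleton A.hom
  haveI : IsClosedImmersion η[B].left :=
    have : IsClosedImmersion (η[B].left ≫ B.hom) := by
      rw [Over.w η[B]]
      exact inferInstanceAs (IsClosedImmersion (𝟙 (Spec (CommRingCat.of k))))
    IsClosedImmersion.of_comp η[B].left B.hom
  obtain ⟨f', hf'⟩ := Groth.Agent.GrpSchLib.exists_fac_of_points (K := Ω) φ η[B] fun s => ⟨toUnit _, by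
    rw [hpts s, MonObj.one_eq_one]
    exact congrArg (· ≫ η[B]) (toUnit_unique _ _)⟩
  rw [← hf', toUnit_unique f' (toUnit A), MonObj.one_eq_one, MonObj.comp_one]

/-- `φ ↦ T_l(φ)` is injective. -/
theorem eq_one_of_tateMap_eq_zero (l : ℕ) [Fact l.Prime] (hl : (l : k) ≠ 0) (φ : A ⟶ B) [IsMonHom φ]
    (h : AbDual.tateMapₗ (l := l) (T := pΩ) φ = 0) : φ = 1 := by
  obtain ⟨g, hg⟩ := exists_dim A
  have hdiv := (geom_points σ A hg).1 l (Fact.out : l.Prime).pos
  exact eq_one_of_kills_geom A B l hl φ fun n x hx =>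
    kills_torsion pΩ l hdiv φ n 0 (by rw [h, smul_zero]) x hx

end Groth.Agent.AVSubLib
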