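import Groth.Agent.AVSubLib.Torsion
import Groth.Agent.H23.RedSub

/-!
Density of prime power torsion points.
-/

set_option autoImplicit false
set_option linter.style.haveILetI false

universe u

open CategoryTheory CategoryTheory.Limits MonoidalCategory CartesianMonoidalCategory MonObj GrpObj AlgebraicGeometry
open TopologicalSpace
open Groth.Agent.GrpSchLib Groth.Agent.H23

namespace Groth.Agent.AVSubLib

variable {k : Type u} [Field k] [IsAlgClosed k]

local notation "pt₀" => (𝟙_ (Over (Spec (CommRingCat.of k))))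
local notation "c₀" => IsLocalRing.closedPoint k

/-- The closure of the `l`-power torsion is the whole abelian variety. -/
theorem dense_tors (A : Over (Spec (CommRingCat.of k))) [GrpObj A] [IsCommMonObj A] [IsProper A.hom]
    [GeometricallyIntegral A.hom] (l : ℕ) [Fact l.Prime] (hl : (l : k) ≠ 0) :
    Dense {x : A.left | ∃ (n : ℕ) (a : pt₀ ⟶ A), a ^ l ^ n = 1 ∧ a.left c₀ = x} := by
  set Tset := {x : A.left | ∃ (n : ℕ) (a : pt₀ ⟶ A), a ^ l ^ n = 1 ∧ a.left c₀ = x}
  haveI : JacobsonSpace A.left := LocallyOfFiniteType.jacobsonSpace A.hom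
  let D : Closeds A.left := ⟨closure Tset, isClosed_closure⟩
  let S : (pt₀ ⟶ A) → Prop := fun x => x.left c₀ ∈ (D : Set A.left)
  have htors : ∀ (n : ℕ) (a : pt₀ ⟶ A), a ^ l ^ n = 1 → S a := fun n a ha => subset_closure ⟨n, a, ha, rfl⟩
  -- translations
  have etr : ∀ a b : pt₀ ⟶ A, b ≫ ((toUnit A ≫ a) * 𝟙 A) = a * b := fun a b => by
    rw [MonObj.comp_mul, Category.comp_id, ← Category.assoc, toUnit_unique (b ≫ toUnit A) (𝟙 _), Category.id_comp]
  have hstab : ∀ a : pt₀ ⟶ A, (∀ (n : ℕ) (b : pt₀ ⟶ A), b ^ l ^ n = 1 → S (a * b)) → ∀ b, S b → S (a * b) := by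
    intro a ha b hb
    have hmap : Set.MapsTo ((toUnit A ≫ a) * 𝟙 A : A ⟶ A).left (closure Tset) (closure Tset) := by
      refine (Set.MapsTo.closure (s := Tset) (t := closure Tset) ?_ ((toUnit A ≫ a) * 𝟙 A : A ⟶ A).left.continuous).mono_right
        closure_closure.le
      rintro _ ⟨n, c, hc, rfl⟩
      show S (c ≫ ((toUnit A ≫ a) * 𝟙 A))
      rw [etr]
      exact ha n c hc
    have hab : S (b ≫ ((toUnit A ≫ a) * 𝟙 A)) := hmap hb
    rwa [etr] at hab
  have h1 : ∀ (n : ℕ) (a : pt₀ ⟶ A), a ^ l ^ n = 1 → ∀ b, S b → S (a * b) := fun n a ha => hstab a fun m b hb =>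
    htors (n + m) _ (by
      rw [mul_pow, pow_add, pow_mul, ha, one_pow, _root_.one_mul, mul_comm (l ^ n), pow_mul, hb, one_pow])
  have hmul : ∀ a b : pt₀ ⟶ A, S a → S b → S (a * b) := fun a b ha hb =>
    hstab a (fun n c hc => by rw [mul_comm]; exact h1 n c hc a ha) b hb
  have hinv : ∀ a : pt₀ ⟶ A, S a → S a⁻¹ := fun a ha => by
    have hmap : Set.MapsTo ((𝟙 A)⁻¹ : A ⟶ A).left (closure Tset) (closure Tset) := by
      refine Set.MapsTo.closure (fun x hx => ?_) ((𝟙 A)⁻¹ : A ⟶ A).left.continuous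
      obtain ⟨n, c, hc, rfl⟩ := hx
      exact ⟨n, c ≫ (𝟙 A)⁻¹, by rw [GrpObj.comp_inv, Category.comp_id, inv_pow, hc, inv_one], rfl⟩
    have hai : S (a ≫ (𝟙 A)⁻¹) := hmap ha
    rwa [GrpObj.comp_inv, Category.comp_id] at hai
  -- the reduced subgroup with this range
  let N : Over (Spec (CommRingCat.of k)) :=
    Over.mk ((Scheme.IdealSheafData.vanishingIdeal D).subschemeι ≫ A.hom)
  let i : N ⟶ A := Over.homMk (Scheme.IdealSheafData.vanishingIdeal D).subschemeι rfl
  haveI hi : IsClosedImmersion i.left :=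
    inferInstanceAs (IsClosedImmersion (Scheme.IdealSheafData.vanishingIdeal D).subschemeι)
  haveI : IsReduced N.left := RedSub.isReduced_vanishingIdeal D
  haveI : IsProper N.hom := inferInstanceAs (IsProper (i.left ≫ A.hom))
  haveI : Mono i := (Over.forget _).mono_of_mono_map (inferInstanceAs (Mono i.left))
  have hr : Set.range i.left = (D : Set A.left) := RedSub.range_vanishingIdeal D
  have hN : ∀ x : pt₀ ⟶ N, S (x ≫ i) := fun x => by
    show (x ≫ i).left c₀ ∈ (D : Set A.left)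
    rw [← hr]
    exact ⟨_, rfl⟩
  have hfac : ∀ {T : Over (Spec (CommRingCat.of k))} (f : T ⟶ A), LocallyOfFiniteType T.hom → IsReduced T.left →
      (∀ x : pt₀ ⟶ T, S (x ≫ f)) → ∃ f₀ : T ⟶ N, f₀ ≫ i = f := by
    intro T f _ _ hf
    haveI : JacobsonSpace T.left := LocallyOfFiniteType.jacobsonSpace T.hom
    have hsub : Set.range f.left ⊆ Set.range i.left := by
      rintro _ ⟨t, rfl⟩
      rw [hr]
      by_contra ht
      obtain ⟨c, hc1, hc2⟩ := nonempty_inter_closedPoints (Z := f.left ⁻¹' (D : Set A.left)ᶜ) ⟨t, ht⟩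
        (D.isClosed.isOpen_compl.preimage f.left.continuous).isLocallyClosed
      obtain ⟨x, rfl⟩ := exists_pt hc2
      exact hc1 (hf x)
    obtain ⟨g, hg⟩ := RedSub.exists_lift_closed f.left i.left hsub
    refine ⟨Over.homMk g ?_, Over.OverMorphism.ext hg⟩
    show g ≫ i.left ≫ A.hom = _
    rw [reassoc_of% hg, Over.w]
  haveI : IsReduced (N ⊗ N).left := isReduced_pullback_of_perfectField N.hom N.hom
  haveI : LocallyOfFiniteType (N ⊗ N).hom :=
    inferInstanceAs (LocallyOfFiniteType (pullback.fst N.hom N.hom ≫ N.hom))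
  obtain ⟨e₀, he₀⟩ := hfac η[A] (inferInstanceAs (LocallyOfFiniteType (𝟙 (Spec (CommRingCat.of k))))) (inferInstanceAs (IsReduced (Spec (CommRingCat.of k)))) fun x =>
    htors 0 _ (by
      rw [pow_zero, pow_one, toUnit_unique x (𝟙 _), Category.id_comp, MonObj.one_eq_one])
  obtain ⟨m₀, hm₀⟩ := hfac ((fst N N ≫ i) * (snd N N ≫ i)) inferInstance inferInstance fun x => by
    rw [MonObj.comp_mul, ← Category.assoc, ← Category.assoc]
    exact hmul _ _ (hN _) (hN _)
  obtain ⟨v₀, hv₀⟩ := hfac i⁻¹ inferInstance inferInstance fun x => by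
    rw [GrpObj.comp_inv]
    exact hinv _ (hN _)
  letI : GrpObj N := grpObjOfFactor i e₀ he₀ m₀ hm₀ v₀ hv₀
  haveI : IsMonHom i := ⟨he₀, by
    show m₀ ≫ i = _
    rw [hm₀]
    simp [Hom.mul_def]⟩
  obtain ⟨C, _, _, _, j, hj, c, hjc, hcij, F, hF⟩ := exists_component A N i
  haveI := isIso_of_tors A l hl C j F fun n x hx => by
    obtain ⟨w, hw⟩ : x.left c₀ ∈ Set.range i.left := hr ▸ htors n x hx
    have hwc : IsClosed ({w} : Set N.left) := by
      rw [← Set.preimage_image_eq ({w} : Set N.left) i.left.isEmbedding.injective, Set.image_singleton, hw]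
      exact (isClosed_pt x).preimage i.left.continuous
    obtain ⟨z, rfl⟩ := exists_pt hwc
    have hx' : x = z ≫ i := pt_ext hw.symm
    obtain ⟨f, hf, y, hy⟩ := hF z
    exact ⟨f, hf, y, hx'.trans hy⟩
  haveI : Surjective j.left := by
    haveI : IsIso j.left := inferInstanceAs (IsIso ((Over.forget (Spec (CommRingCat.of k))).map j))
    infer_instance
  intro x
  obtain ⟨w, rfl⟩ := j.left.surjective x
  show j.left w ∈ (D : Set A.left)
  rw [← hr, ← hcij, left_comp_apply]
  exact ⟨_, rfl⟩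

end Groth.Agent.AVSubLib
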