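import Groth.Prelude.Def_AbDual
import Mathlib.GroupTheory.Torsion
import Mathlib.GroupTheory.OrderOfElement
import Mathlib.Data.Nat.Factorization.Basic
import Mathlib.Data.Nat.ModEq

/-!
The sequence of Tate modules attached to a surjection on points with finite kernel.
-/

set_option autoImplicit false
set_option linter.style.haveILetI false

universe u

open CategoryTheory MonoidalCategory CartesianMonoidalCategory MonObj GrpObj AlgebraicGeometry

namespace Groth.Agent.AVSubLib

variable {S : Scheme.{u}} (T : Over S) (l : ℕ) {A B : Over S} [GrpObj A] [IsCommMonObj A] [GrpObj B]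
  [IsCommMonObj B] (f : A ⟶ B) [IsMonHom f]

/-- The kernel on points. -/
noncomputable def kerPts : Subgroup (T ⟶ A) := (MonoidHom.mk' (fun x : T ⟶ A => x ≫ f) fun x y => MonObj.mul_comp x y f).ker

theorem mem_kerPts {x : T ⟶ A} : x ∈ kerPts T f ↔ x ≫ f = 1 := Iff.rfl

/-- The component of a Tate vector as a point. -/
abbrev comp {A : Over S} [GrpObj A] [IsCommMonObj A] (t : AbDual.TateMod A l T) (n : ℕ) : T ⟶ A :=
  ((t : ℕ → Additive (T ⟶ A)) n).toMul

omit f in
theorem comp_pow {A : Over S} [GrpObj A] [IsCommMonObj A] (t : AbDual.TateMod A l T) (m : ℕ) :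
    ∀ i, comp T l t (m + i) ^ l ^ i = comp T l t m := fun i => by
  induction i generalizing m with
  | zero => rw [pow_zero, pow_one, add_zero]
  | succ i ih =>
    rw [pow_succ', pow_mul, ← ih m]
    congr 1
    exact congrArg Additive.toMul (AbDual.TateMod.compat (A := A) (T := T) (l := l) t (m + i))

omit f in
theorem comp_torsion {A : Over S} [GrpObj A] [IsCommMonObj A] (t : AbDual.TateMod A l T) (n : ℕ) :
    comp T l t n ^ l ^ n = 1 :=
  congrArg Additive.toMul (AbDual.TateMod.torsion (A := A) (T := T) (l := l) t n)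

/-- The Tate sequence of a surjection with finite kernel. -/
theorem tate_sequence [Fact l.Prime] (hsurj : ∀ b : T ⟶ B, ∃ a : T ⟶ A, a ≫ f = b)
    (hdiv : ∀ b : T ⟶ A, ∃ a : T ⟶ A, a ^ l = b) [Finite (kerPts T f)] :
    Function.Injective (AbDual.tateMapₗ (l := l) (T := T) f) ∧
      Nonempty ((AbDual.TateMod B l T ⧸ LinearMap.range (AbDual.tateMapₗ (l := l) (T := T) f)) ≃+
        Additive ↥(CommGroup.primaryComponent (kerPts T f) l)) := by
  classical
  have hp : l.Prime := Fact.out
  let K := kerPts T f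
  let c := Nat.card K
  have hc : c ≠ 0 := Nat.card_pos.ne'
  let v := c.factorization l
  let m := c / l ^ v
  have hcm : l ^ v * m = c := Nat.ordProj_mul_ordCompl_eq_self c l
  have hco : Nat.Coprime (l ^ v) m := (Nat.coprime_ordCompl hp hc).pow_left v
  obtain ⟨e, he1, he0⟩ := Nat.chineseRemainder hco 1 0
  have hkill : ∀ κ : T ⟶ A, κ ∈ K → κ ^ c = 1 := fun κ hκ =>
    congrArg Subtype.val (pow_card_eq_one' (G := K) (x := ⟨κ, hκ⟩))
  have hme : m ∣ e := Nat.modEq_zero_iff_dvd.mp he0
  have hkill' : ∀ κ : T ⟶ A, κ ∈ K → κ ^ (l ^ v * e) = 1 := fun κ hκ => by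
    obtain ⟨e', rfl⟩ := hme
    rw [← _root_.mul_assoc, pow_mul, hcm, hkill κ hκ, one_pow]
  -- the `l`-part of the kernel has exponent `l ^ v`
  have hlp : ∀ κ : T ⟶ A, κ ∈ K → ∀ i, κ ^ l ^ i = 1 → κ ^ l ^ v = 1 := fun κ hκ i hi => by
    have h1 : orderOf κ ∣ l ^ i := orderOf_dvd_of_pow_eq_one hi
    have h2 : orderOf κ ∣ c := orderOf_dvd_of_pow_eq_one (hkill κ hκ)
    obtain ⟨j, -, hj⟩ := (Nat.dvd_prime_pow hp).mp h1
    rw [hj] at h2
    exact orderOf_dvd_iff_pow_eq_one.mp (hj ▸ pow_dvd_pow l ((hp.pow_dvd_iff_le_factorization hc).mp h2))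
  have he : ∀ κ : T ⟶ A, κ ^ l ^ v = 1 → κ ^ e = κ := fun κ hκ => by
    conv_rhs => rw [← pow_one κ]
    rw [pow_eq_pow_iff_modEq]
    exact he1.of_dvd (orderOf_dvd_of_pow_eq_one hκ)
  have hlift : ∀ b : T ⟶ B, ∀ n, b ^ l ^ n = 1 → ∀ x : T ⟶ A, x ≫ f = b → x ^ l ^ n ∈ K := fun b n hb x hx => by
    rw [mem_kerPts, MonObj.pow_comp, hx, hb]
  choose lift hliftf using hsurj
  let δ₀ : AbDual.TateMod B l T → (T ⟶ A) := fun y => lift (comp T l y v) ^ (l ^ v * e)
  have hδ : ∀ (y : AbDual.TateMod B l T) (x : T ⟶ A), x ≫ f = comp T l y v → x ^ (l ^ v * e) = δ₀ y := fun y x hx => by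
    have hk : x * (lift (comp T l y v))⁻¹ ∈ K := by
      rw [mem_kerPts, MonObj.mul_comp, GrpObj.inv_comp, hx, hliftf, mul_inv_cancel]
    have h := hkill' _ hk
    rwa [mul_pow, inv_pow, mul_inv_eq_one] at h
  have hδK : ∀ y, δ₀ y ∈ K := fun y => by
    show lift (comp T l y v) ^ (l ^ v * e) ∈ K
    rw [pow_mul]
    exact K.pow_mem (hlift _ v (comp_torsion T l y v) _ (hliftf _)) e
  have hδP : ∀ y, (⟨δ₀ y, hδK y⟩ : K) ∈ CommGroup.primaryComponent K l := fun y => by
    refine ⟨v, Subtype.ext ?_⟩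
    show (lift (comp T l y v) ^ (l ^ v * e)) ^ l ^ v = 1
    rw [← pow_mul, show l ^ v * e * l ^ v = l ^ v * (l ^ v * e) by ring, pow_mul]
    exact hkill' _ (hlift _ v (comp_torsion T l y v) _ (hliftf _))
  let δ : AbDual.TateMod B l T →+ Additive ↥(CommGroup.primaryComponent K l) :=
    AddMonoidHom.mk' (fun y => Additive.ofMul ⟨⟨δ₀ y, hδK y⟩, hδP y⟩) fun y z => by
      refine congrArg Additive.ofMul (Subtype.ext (Subtype.ext ?_))
      show δ₀ (y + z) = δ₀ y * δ₀ z
      refine ((hδ (y + z) (lift (comp T l y v) * lift (comp T l z v)) ?_).symm).trans (mul_pow _ _ _)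
      rw [MonObj.mul_comp, hliftf, hliftf]
      rfl
  have hsur : Function.Surjective δ := fun p => by
    obtain ⟨i, hi⟩ := p.toMul.2
    have hpv : (p.toMul.1.1 : T ⟶ A) ^ l ^ v = 1 := hlp _ p.toMul.1.2 i (congrArg Subtype.val hi)
    choose root hroot using hdiv
    let x : ℕ → (T ⟶ A) := fun n => root^[n] p.toMul.1.1
    have hx : ∀ n, x n ^ l ^ n = p.toMul.1.1 := fun n => by
      induction n with
      | zero => simp [x]
      | succ n ih =>
        show root^[n + 1] _ ^ l ^ (n + 1) = _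
        rw [Function.iterate_succ_apply', pow_succ', pow_mul, hroot]
        exact ih
    let y : AbDual.TateMod B l T := ⟨fun n => Additive.ofMul (x n ≫ f),
      ⟨fun n => congrArg Additive.ofMul (show (x n ≫ f) ^ l ^ n = 1 by
          rw [← MonObj.pow_comp, hx]; exact p.toMul.1.2),
       fun n => congrArg Additive.ofMul (show (x (n + 1) ≫ f) ^ l = x n ≫ f by
          rw [← MonObj.pow_comp]
          congr 1
          show root^[n + 1] _ ^ l = _
          rw [Function.iterate_succ_apply', hroot])⟩⟩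
    refine ⟨y, congrArg Additive.ofMul (Subtype.ext (Subtype.ext ?_))⟩
    show δ₀ y = p.toMul.1.1
    rw [← hδ y (x v) rfl, pow_mul, hx, he _ hpv]
  have hker : ∀ y, δ y = 0 ↔ y ∈ LinearMap.range (AbDual.tateMapₗ (l := l) (T := T) f) := fun y => by
    constructor
    · intro h0
      have h0' : δ₀ y = 1 := congrArg (fun p : Additive ↥(CommGroup.primaryComponent K l) => (p.toMul.1.1 : T ⟶ A)) h0
      have hex : ∀ n, ∃ x : T ⟶ A, x ≫ f = comp T l y (v + n) ∧ x ^ l ^ (v + n) = 1 := fun n => by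
        let x := lift (comp T l y (v + n))
        have h1 : (x ^ l ^ n) ^ (l ^ v * e) = 1 := by
          rw [hδ y _ (by rw [MonObj.pow_comp, hliftf, comp_pow]), h0']
        have h2 : (x ^ l ^ (v + n)) ^ e = 1 := by
          rw [← h1, ← pow_mul, ← pow_mul, pow_add]
          congr 1
          ring
        have hκ : x ^ l ^ (v + n) ∈ K := hlift _ _ (comp_torsion T l y (v + n)) _ (hliftf _)
        have hord : Nat.Coprime (orderOf (x ^ l ^ (v + n))) (l ^ (v + n)) := by
          refine Nat.Coprime.pow_right _ (Nat.Coprime.symm ((hp.coprime_iff_not_dvd).mpr fun hd => ?_))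
          have hle : orderOf (x ^ l ^ (v + n)) ∣ e := orderOf_dvd_of_pow_eq_one h2
          have hdc : orderOf (x ^ l ^ (v + n)) ∣ c := orderOf_dvd_of_pow_eq_one (hkill _ hκ)
          rcases Nat.eq_zero_or_pos v with hv | hv
          · have : l ∣ c := hd.trans hdc
            have h3 := (hp.pow_dvd_iff_le_factorization hc (k := 1)).mp (by rwa [pow_one])
            change 1 ≤ v at h3
            omega
          · have h4 : e ≡ 1 [MOD l] := he1.of_dvd (dvd_pow_self l hv.ne')
            exact hp.not_dvd_one ((h4.dvd_iff dvd_rfl).mp (hd.trans hle))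
        obtain ⟨s, hs⟩ := exists_pow_eq_self_of_coprime (n := l ^ (v + n)) (x := x ^ l ^ (v + n)) hord.symm
        refine ⟨x * ((x ^ l ^ (v + n)) ^ s)⁻¹, ?_, ?_⟩
        · rw [MonObj.mul_comp, GrpObj.inv_comp, (mem_kerPts T f).mp (K.pow_mem hκ s), inv_one, _root_.mul_one, hliftf]
        · rw [mul_pow, inv_pow, ← pow_mul _ s, mul_comm s, pow_mul _ (l ^ (v + n)) s, hs, mul_inv_cancel]
      choose x hxf hxt using hex
      refine ⟨⟨fun n => Additive.ofMul (x n ^ l ^ v),
        ⟨fun n => congrArg Additive.ofMul (show (x n ^ l ^ v) ^ l ^ n = 1 by rw [← pow_mul, ← pow_add, hxt]),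
         fun n => congrArg Additive.ofMul (show (x (n + 1) ^ l ^ v) ^ l = x n ^ l ^ v by
          rw [← pow_mul, mul_comm, pow_mul, ← mul_inv_eq_one, ← inv_pow, ← mul_pow]
          refine hlp _ ?_ (v + n) ?_
          · rw [mem_kerPts, MonObj.mul_comp, GrpObj.inv_comp, MonObj.pow_comp, hxf, hxf]
            have := comp_pow T l y (v + n) 1
            rw [pow_one] at this
            rw [← this, ← add_assoc]
            exact mul_inv_cancel _
          · rw [mul_pow, inv_pow, hxt, inv_one, _root_.mul_one, ← pow_mul, ← pow_succ', add_assoc]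
            exact hxt (n + 1))⟩⟩, AbDual.TateMod.ext fun n => congrArg Additive.ofMul
            (show (x n ^ l ^ v) ≫ f = comp T l y n by
              rw [MonObj.pow_comp, hxf, add_comm]
              exact comp_pow T l y n v)⟩
    · rintro ⟨t, rfl⟩
      refine congrArg Additive.ofMul (Subtype.ext (Subtype.ext ?_))
      show δ₀ _ = 1
      rw [← hδ _ (comp T l t v) rfl, pow_mul, comp_torsion, one_pow]
  refine ⟨(injective_iff_map_eq_zero _).mpr fun t ht => AbDual.TateMod.ext fun n => ?_, ⟨?_⟩⟩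
  · show ((t : ℕ → Additive (T ⟶ A)) n) = 0
    refine congrArg Additive.ofMul (?_ : comp T l t n = 1)
    rw [← comp_pow T l t n v]
    exact hlp _ ((mem_kerPts T f).mpr (congrArg (fun s : AbDual.TateMod B l T => comp T l s (n + v)) ht))
      (n + v) (comp_torsion T l t (n + v))
  · refine (QuotientAddGroup.quotientAddEquivOfEq ?_).trans (QuotientAddGroup.quotientKerEquivOfSurjective δ hsur)
    ext y
    exact (hker y).symm

end Groth.Agent.AVSubLib
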